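import Cfsg.Agent.Lib.Helper17.E8I.DefsE

set_option autoImplicit false

/-! # E8I piece C4 (helper23 for helper17's farm): five orthogonal roots of `E8` contain a `D4`-quadruple -/

namespace Cfsg.Agent.Lib.Helper23.E8I

open Cfsg.Lie Cfsg.Agent.Lib.Helper18 Cfsg.Agent.Lib.Helper17 Cfsg.Agent.Lib.Helper36
  Cfsg.Agent.Lib.Helper6 Matrix Cfsg.Agent.Lib.Helper17.E8I

/-- the 26 roots orthogonal to 239, 226, 159 -/
def C4_L26 : List ℕ := [87, 91, 92, 96, 97, 98, 102, 103, 104, 108, 109, 113, 118, 121, 126, 130, 131, 135, 136, 137, 141, 142, 143, 147, 148, 152]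

/-- witnesses -/
def C4_tab : List (ℕ × ℕ) := [(20978, 203), (20984, 181), (20993, 229), (20998, 237), (21001, 238), (21006, 230), (21015, 191), (21021, 213), (21937, 203), (21943, 181), (21948, 229), (21958, 237), (21961, 238), (21971, 231), (21976, 197), (21982, 217), (22176, 203), (22182, 181), (22189, 230), (22198, 237), (22201, 238), (22210, 231), (22217, 200), (22223, 218), (23132, 203), (23142, 229), (23149, 191), (23158, 237), (23161, 238), (23170, 197), (23177, 232), (23187, 222), (23371, 203), (23383, 230), (23388, 191), (23398, 237), (23401, 238), (23411, 200), (23416, 232), (23428, 223), (23607, 203), (23624, 231), (23633, 197), (23638, 237), (23641, 238), (23646, 200), (23655, 232), (23672, 224), (24572, 181), (24576, 229), (24589, 213), (24598, 237), (24601, 238), (24610, 217), (24623, 233), (24627, 207), (24811, 181), (24817, 230), (24828, 213), (24838, 237), (24841, 238), (24851, 218), (24862, 233), (24868, 210), (25047, 181), (25058, 231), (25073, 217), (25078, 237), (25081, 238), (25086, 218), (25101, 233), (25112, 214), (26011, 229),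 (26017, 191), (26023, 213), (26038, 237), (26041, 238), (26056, 222), (26062, 207), (26068, 234), (26252, 230), (26256, 191), (26262, 213), (26278, 237), (26281, 238), (26297, 223), (26303, 210), (26307, 234), (27207, 229), (27218, 197), (27224, 217), (27238, 237), (27241, 238), (27255, 222), (27261, 207), (27272, 235), (28407, 237), (28411, 237), (28412, 237), (28416, 237), (28417, 237), (28418, 237), (28422, 237), (28423, 237), (28424, 237), (28428, 237), (28429, 237), (28433, 237), (28446, 237), (28450, 237), (28451, 237), (28455, 237), (28456, 237), (28457, 237), (28461, 237), (28462, 237), (28463, 237), (28467, 237), (28468, 237), (28472, 237), (29127, 238), (29131, 238), (29132, 238), (29136, 238), (29137, 238), (29138, 238), (29142, 238), (29143, 238), (29144, 238), (29148, 238), (29149, 238), (29153, 238), (29166, 238), (29170, 238), (29171, 238), (29175, 238), (29176, 238), (29177, 238), (29181, 238), (29182, 238), (29183, 238), (29187, 238), (29188, 238), (29192, 238), (30327, 230), (30338, 200), (30344, 218), (30358, 237), (30361, 238), (30375,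 223), (30381, 210), (30392, 236), (31292, 231), (31296, 197), (31302, 217), (31318, 237), (31321, 238), (31337, 224), (31343, 214), (31347, 235), (31531, 231), (31537, 200), (31543, 218), (31558, 237), (31561, 238), (31576, 224), (31582, 214), (31588, 236), (32487, 191), (32498, 232), (32513, 222), (32518, 237), (32521, 238), (32526, 223), (32541, 234), (32552, 219), (32731, 197), (32737, 232), (32748, 222), (32758, 237), (32761, 238), (32771, 224), (32782, 235), (32788, 219), (32972, 200), (32976, 232), (32989, 223), (32998, 237), (33001, 238), (33010, 224), (33023, 236), (33027, 219), (33927, 213), (33944, 233), (33953, 207), (33958, 237), (33961, 238), (33966, 210), (33975, 234), (33992, 225), (34171, 217), (34183, 233), (34188, 207), (34198, 237), (34201, 238), (34211, 214), (34216, 235), (34228, 225), (34412, 218), (34422, 233), (34429, 210), (34438, 237), (34441, 238), (34450, 214), (34457, 236), (34467, 225), (35376, 222), (35382, 207), (35389, 234), (35398, 237), (35401, 238), (35410, 235), (35417, 219), (35423, 225), (35617, 223), (35623, 210),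 (35628, 234), (35638, 237), (35641, 238), (35651, 236), (35656, 219), (35662, 225), (36578, 224), (36584, 214), (36593, 235), (36598, 237), (36601, 238), (36606, 236), (36615, 219), (36621, 225)]

def C4_d4b (r a b c d : ℕ) : Bool :=
  decide (chevE8.pairing r a = 1) && decide (chevE8.pairing r b = 1) && decide (chevE8.pairing r c = 1) &&
    decide (chevE8.pairing r d = 1)

theorem C4_isD4 {r a b c d : ℕ} (hr : r < 240) (h : C4_d4b r a b c d = true) : isD4 a b c d := by
  unfold C4_d4b at h
  simp only [Bool.and_eq_true, decide_eq_true_eq] at h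
  exact ⟨⟨r, hr⟩, h.1.1.1, h.1.1.2, h.1.2, h.2⟩

def C4_chk (a b : ℕ) : Bool :=
  decide (chevE8.pairing a b ≠ 0) ||
    (decide ((C4_tab.lookup (a * 240 + b)).getD 240 < 240) &&
      (C4_d4b ((C4_tab.lookup (a * 240 + b)).getD 240) 226 159 a b ||
       C4_d4b ((C4_tab.lookup (a * 240 + b)).getD 240) 239 159 a b ||
       C4_d4b ((C4_tab.lookup (a * 240 + b)).getD 240) 239 226 a b ||
       C4_d4b ((C4_tab.lookup (a * 240 + b)).getD 240) 239 226 159 b ||
       C4_d4b ((C4_tab.lookup (a * 240 + b)).getD 240) 239 226 159 a))

set_option maxRecDepth 100000 in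
theorem C4_mem : ((List.range 240).all fun o => decide (chevE8.pairing 239 o ≠ 0) ||
    decide (chevE8.pairing 226 o ≠ 0) || decide (chevE8.pairing 159 o ≠ 0) || decide (o ∈ C4_L26)) = true := by
  decide +kernel

set_option maxRecDepth 100000 in
theorem C4_all : (C4_L26.all fun a => C4_L26.all fun b => C4_chk a b) = true := by
  decide +kernel

theorem C4_mem' {o : ℕ} (ho : o < 240) (h1 : e8orth 239 o) (h2 : e8orth 226 o) (h3 : e8orth 159 o) :
    o ∈ C4_L26 := by
  have h := List.all_eq_true.1 C4_mem o (List.mem_range.2 ho)
  unfold e8orth at h1 h2 h3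
  simpa [h1, h2, h3] using h

/-- [C4] five orthogonal roots contain a D4-quadruple (table over the 26 × 26 pairs). -/
theorem five (o4 o5 : ℕ) (h : OL [239, 226, 159, o4, o5]) :
    isD4 226 159 o4 o5 ∨ isD4 239 159 o4 o5 ∨ isD4 239 226 o4 o5 ∨ isD4 239 226 159 o5 ∨
      isD4 239 226 159 o4 := by
  obtain ⟨hp, hb⟩ := h
  have hb4 : o4 < 240 := hb o4 (by simp)
  have hb5 : o5 < 240 := hb o5 (by simp)
  simp only [List.pairwise_cons, List.mem_cons, List.not_mem_nil, or_false, forall_eq_or_imp, forall_eq,
    IsEmpty.forall_iff, implies_true, List.Pairwise.nil, and_true] at hp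
  obtain ⟨⟨-, -, h94, h95⟩, ⟨-, h64, h65⟩, ⟨h54, h55⟩, h45⟩ := hp
  have m4 := C4_mem' hb4 h94 h64 h54
  have m5 := C4_mem' hb5 h95 h65 h55
  have hc := List.all_eq_true.1 (List.all_eq_true.1 C4_all o4 m4) o5 m5
  unfold C4_chk at hc
  unfold e8orth at h45
  simp only [h45, ne_eq, not_true_eq_false, decide_false, Bool.false_or, Bool.and_eq_true, Bool.or_eq_true,
    decide_eq_true_eq] at hc
  obtain ⟨hr, hc⟩ := hc
  rcases hc with (((hc | hc) | hc) | hc) | hc
  · exact Or.inl (C4_isD4 hr hc)
  · exact Or.inr (Or.inl (C4_isD4 hr hc))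
  · exact Or.inr (Or.inr (Or.inl (C4_isD4 hr hc)))
  · exact Or.inr (Or.inr (Or.inr (Or.inl (C4_isD4 hr hc))))
  · exact Or.inr (Or.inr (Or.inr (Or.inr (C4_isD4 hr hc))))

end Cfsg.Agent.Lib.Helper23.E8I
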